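import Cfsg.Agent.Lib.Spor.GLTwoAmalgam.One0.Part0

/-!
A collapsing case: the assembled checks.
-/

set_option autoImplicit false

namespace CfsgLib.Spor.GLTwoAmalgam.One0

open CfsgLib.Spor.TC

theorem steps_ok : cert.SStepsOK 0 143 :=
  steps0

def rcodes : List ℕ := [
  0x290000100002800001000118000010001190000100000b0000100000a00001000005000010000040000100011c0000100011d0000100000300001000002000010000010000100000000001]

set_option maxRecDepth 100000 in
theorem rows_ok : cert.SRowsOK 143 1 0 1 :=
  Cert.SRowsOK.of_check _ (codes := rcodes) (by decide +kernel)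

end CfsgLib.Spor.GLTwoAmalgam.One0
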