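import Cfsg.Agent.Lib.Spor.TC.Signed

/-!
A collapsing case: tables found by a computer search.
-/

set_option autoImplicit false
set_option maxRecDepth 100000

namespace CfsgLib.Spor.GLTwoAmalgam.One0

open CfsgLib.Spor.TC

def edgeTbl : Tbl :=
  (.bin (.bin (.bin (.tip 0x10000ed0000100001b0000d0000220000c0000d6000020000c2000020000200000a0000b6000090000a50000800009700003000089000030000670000000000c0000500003e0000000004e000020000350000000003a00006000075000050000670000400005b0000000004d000030000250000000003b00001000018000010000120000200001700001000027000000000080000100000400000000014000000000060000000000200000000000) (.tip 0x50000100000e0000000000b0001800000e0001700000e0001900000e0001d00000e0000800000e0000300000e0001e00018e0001f00015e0000800003e0001600003e0001a00006e0000900006e)) (.bin (.tip 0x260000b5000250002650001c0002560000800016a000240000ba0002300024600022000235000210002270002000021b0000800020d0000800016b0000a0000950001f0001d70001a0001f8000160000960000c0000840001e000160000190001e9000080001d0000090001a100009000060000090001be0001c0001a50001a0001c50001b0000600001a0001b000015000177000060001a00000d0000850001a000087000160001a700019000080)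 .none)) (.bin (.bin (.tip 0x1800019900016000088000180000300001700018400003000170000030001680000700006500006000158000060000370001400007e000060001440000600012e0000c0000d7000160000d50000c000165000120001580001200003700012000145000120001440001300012e0001100003e0001000002e0000f00001e000010000ee0001400013500013000145000130000370001200013a00011000126000100001150000f0001070000e0000fb) .none) (.bin (.tip 0x1a00009e0002700009e0002600028e000290000b40002c00029e0002a00024e0002b0000ae0002d0000ce0000a0002da0000a0000db0000b0002c5000240000a6000090001ac0002c0002450001a00026a0002c0001aa000090002ca0002b0000ca0002a0002b6000290002a5000280002970002700028b0000900027d0000900026b0001c0000b7000240001c7000240002650002500024e000230001ce000220001ae0002100016e0000800020e) .none)))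

def nodeTbl : Tbl :=
  (.bin (.tip 0x1a80001990000800001a50001a00001670001890001740000300000c500012800013500012a0001160001050000f70000eb00001d0000c60000220000a600009500008700003900006500005700004b00000d00000b000017000004000000) (.tip 0xaa00009a0002a600029500028700027b00009d0002550001c600023600022500021700020b00008d))

def rowTbl : Tbl :=
  (.tip 0x0)

/-- The relators. -/
def rels : List (List ℕ) := [
  [0, 0, 0],
  [2, 2, 2],
  [1, 3, 0, 2, 9],
  [8, 8, 8],
  [1, 9, 0, 8],
  [3, 9, 2, 8],
  [4, 4, 4, 4],
  [6, 6, 6, 6],
  [5, 5, 7, 7, 4, 4, 6, 6],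
  [4, 4, 0, 5, 5, 1],
  [6, 6, 0, 7, 7, 0],
  [4, 4, 2, 5, 5, 2],
  [6, 6, 2, 7, 7, 3],
  [6, 6, 8, 7, 7, 8],
  [4, 4, 8, 5, 5, 8],
  [6, 0, 7, 8],
  [6, 8, 7, 1],
  [2, 6, 2, 6, 2, 6],
  [4, 4, 6, 5, 5, 6],
  [7, 7, 3, 6, 6, 2],
  [6, 6, 4, 7, 7, 4],
  [4, 2, 5, 9],
  [4, 8, 5, 2],
  [0, 4, 0, 4, 0, 4],
  [11, 5, 7, 4],
  [13, 11, 7, 5, 6, 10, 7, 4, 6],
  [10, 10, 7, 7, 5, 5],
  [7, 4, 4, 7, 5, 5],
  [10, 10, 10, 10],
  [4, 4, 10, 5, 5, 10],
  [4, 4, 7, 4, 6, 5, 5, 7, 4, 6],
  [12, 10, 10],
  [11, 9, 7, 5, 6, 8, 10, 9, 7, 4, 6, 8]]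

/-- The generators of the subgroup. -/
def subs : List (List ℕ) := [[0], [2], [6], [4, 4], [8]]

/-- The certificate. -/
noncomputable def cert : Cert :=
  ⟨14, rels, subs, edgeTbl.get 44, nodeTbl.get 24, rowTbl.get 20⟩

end CfsgLib.Spor.GLTwoAmalgam.One0
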