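import Cfsg.Agent.Lib.Spor.GLTwoAmalgam.One0.Data

/-!
Checks of a part of the derivation.
-/

set_option autoImplicit false

namespace CfsgLib.Spor.GLTwoAmalgam.One0

open CfsgLib.Spor.TC

def scodes0 : List ℕ := [
  0x10000100003,
  0x10000200003,
  0x10000300003,
  0x1,
  0x8000020000400003,
  0x10000500003,
  0x1,
  0xa0000600006000080000e00005000010001500002,
  0x70000b0000800002000010001600002,
  0x7000040000800002000010001700002,
  0x1,
  0x100000a0001600002000010001900002,
  0x1,
  0x1,
  0x1,
  0x1,
  0x150000500005000090000700001000010001b00002,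
  0x15000080000a000220001800005000010001e00002,
  0x19000220001500001000010002000002,
  0x15000260001c00004,
  0x1a0002500004,
  0x1d0002800004,
  0x1,
  0x1,
  0x1,
  0x1,
  0x10000140000f00002000020001000002,
  0x1,
  0x1,
  0xd000120000f000380003a00005000020001200002,
  0x7000050000800001000020001900002,
  0x1,
  0x1,
  0x1,
  0x1,
  0x1,
  0x1,
  0x230000d00040000420004400046000480004a00007000020001a00002,
  0x1,
  0x4c000230000d0000a000080000e000170004b0004e00007000020001f00002,
  0x3f0003d0003d00001000020002000002,
  0x3d000520004200004,
  0xd000530004400004,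
  0x23000550004600004,
  0x47000580004b00004,
  0x500005a00004,
  0x4d0005a00004,
  0x4b0005a00004,
  0x1,
  0x1,
  0x3c0001700023000380006400005000030000c00002,
  0x39000370000d0000f0003800004000030000d00002,
  0x60000230000d0000f000170002c00005000030001500002,
  0x5b0006900004,
  0x1f0006a0005e00004,
  0x5f0006900004,
  0x610006900004,
  0x6c0006e00004,
  0x660003c0001700002000030001700002,
  0x1,
  0x1,
  0x230003600017000780007a00005000030001800002,
  0x2d0007600002000040000400002,
  0x1,
  0x2d0007b0008000003000040000500002,
  0x1,
  0x2d0006f0002b000760008400005000040000e00002,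
  0x2d0002300017000760006600005000040000f00002,
  0x860002d0006f00002000040001000002,
  0x770006f0007200003000040001100002,
  0x1,
  0x8a0008e00003000070000100002,
  0x1,
  0x89000730001f0008a0009200005000070000a00002,
  0x900002b0006f0008a000860003000006000070000b00002,
  0x8f0009500004,
  0x8e0009500004,
  0x1,
  0x1,
  0x7e000810009e00003000090000500002,
  0x87000650006300004000090000700002,
  0x2f000850008300003000090000800002,
  0x1,
  0x9b00085000a600003000090001100002,
  0x2f0008700065000a40003200005000090001300002,
  0x6600039000a200001000090001900002,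
  0x1,
  0x1,
  0x1,
  0x1,
  0x1,
  0x33000310002f000ae000b0000b2000b4000b600006000090001a00002,
  0xab00030000a3000660008800001000090001b00002,
  0x1,
  0x1,
  0x33000310002f00087000650008400093000bc000be00007000090001f00002,
  0xad000ba000ab00001000090002000002,
  0xab000c2000b000004,
  0x83000c3000b200004,
  0x91000c5000b400004,
  0xb5000c8000bc00004,
  0xbd000ca00004,
  0xbc000ca00004,
  0x33000310002f0008500093000040000a0001500002,
  0xc00003300031000010000a0001900002,
  0x1,
  0x1,
  0x1,
  0x1,
  0x1,
  0x6800065000a4000d4000d6000d8000da000dc000060000a0001a00002,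
  0x1,
  0x860003000032000aa000e0000020000a0001b00002,
  0xd1000e0000e2000030000a0001d00002,
  0xcc000d1000a900031000e0000040000a0001e00002,
  0xe4000d1000010000a0002000002,
  0x34000cf000cd000040000b0000800002,
  0xe6000ea00031000a900034000040000b0001300002,
  0x8800030000a9000010000b0001900002,
  0x1,
  0x6400066000ed00031000a9000f0000040000b0001e00002,
  0xf0000f2000dd00004,
  0xea000f3000db00004,
  0xda000f6000e500004,
  0xec000f800004,
  0xd8000fa000b7000cc000030000c0001900002,
  0xd2000fc000d500004,
  0xd4000fe000e800004,
  0x97000ff0009900004,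
  0x101000ff00004,
  0x2c001030008300004,
  0x6f001030008600004,
  0x7100103000a600004,
  0x7c001050009f00004,
  0x1600105000ab0010800004,
  0x10d0010700004,
  0x10010f0009c00004,
  0x20010f0008100004,
  0x111000a70010a0008c00004,
  0xc001130009e0010c00004,
  0x220010e00004,
  0x11700079001160000800004,
  0x80011c00004]

set_option maxRecDepth 100000 in
theorem steps0 : cert.SStepsOK 0 143 :=
  Cert.SStepsOK.of_check _ (codes := scodes0) (by decide +kernel)

end CfsgLib.Spor.GLTwoAmalgam.One0
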